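import Groth.Agent.CohBase.Natural
import Groth.Agent.CohBase.Functorial

/-! The class of a one-cocycle of an arbitrary open covering: injective modulo coboundaries and natural. -/

set_option autoImplicit false

universe u

open CategoryTheory CategoryTheory.Limits Opposite TopologicalSpace

noncomputable section

namespace Groth.Agent.H1ClassLib

open CohBase

variable {X : Type u} [TopologicalSpace X] {ι : Type u} (U : ι → Opens X)

theorem hδ_Φ0_eq_zero_iff (hcov : ⊤ ≤ iSup U) (F : AbSh X) (z : Zc U (injSeq F).X₃.obj 0) :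
    hδ (injSeq_shortExact F) ⊤ 0 (Φ0 U _ hcov z) = 0 ↔
      ∃ a, cdiff U (injSeq F).X₂.obj 0 a = 0 ∧ ccMap U (injSeq F).g.hom 0 a = z.1 := by
  obtain ⟨s, rfl⟩ := (eps_bijective U (injSeq F).X₃ hcov).2 z
  rw [Φ0_eps, hδ_eq_zero_iff]
  constructor
  · rintro ⟨y, hy⟩
    refine ⟨aug U _ (fun _ => le_top) (H0Equiv ⊤ _ y), cdiff_aug _ _ _, ?_⟩
    have h := congrArg (H0Equiv ⊤ (injSeq F).X₃) hy
    rw [H0Equiv_hmap, AddEquiv.apply_symm_apply] at h
    funext i
    rw [← h]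
    exact (res_map (injSeq F).g.hom _ _).symm
  · rintro ⟨a, ha, hga⟩
    obtain ⟨r, hr⟩ := aug_exact (injSeq F).X₂ (fun _ => le_top) hcov a ha
    refine ⟨(H0Equiv ⊤ _).symm r, ?_⟩
    apply (H0Equiv ⊤ (injSeq F).X₃).injective
    rw [H0Equiv_hmap, AddEquiv.apply_symm_apply, AddEquiv.apply_symm_apply]
    refine aug_injective (U := U) (injSeq F).X₃ (fun _ => le_top) hcov ?_
    refine Eq.trans ?_ hga
    rw [← hr]
    funext i
    exact res_map (injSeq F).g.hom _ _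

theorem Φ0_natural (hcov : ⊤ ≤ iSup U) {F : AbSh X} (f : F ⟶ F) (z z' : Zc U F.obj 0)
    (hz' : z'.1 = ccMap U f.hom 0 z.1) : Φ0 U F hcov z' = hmap (⊤ : Opens X) f 0 (Φ0 U F hcov z) := by
  obtain ⟨s, rfl⟩ := (eps_bijective U F hcov).2 z
  obtain rfl : z' = eps U F (f.hom.app (op ⊤) s) := Subtype.ext (hz'.trans (eps_natural U f s))
  simp only [Φ0_eps]
  apply (H0Equiv ⊤ F).injective
  rw [H0Equiv_hmap, AddEquiv.apply_symm_apply, AddEquiv.apply_symm_apply]

/-- The class of a one-cocycle, surjective for acyclic sheaves. -/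
theorem exists_class_surj (hcov : ⊤ ≤ iSup U) (F : AbSh X) :
    ∃ Φ : Zc U F.obj 1 →+ HU (⊤ : Opens X) F 1, (∀ z, Φ z = 0 ↔ z.1 ∈ Bc U F.obj 1) ∧
      (∀ (f : F ⟶ F) (z z' : Zc U F.obj 1), z'.1 = ccMap U f.hom 1 z.1 → Φ z' = hmap (⊤ : Opens X) f 1 (Φ z)) ∧
      (Acyclic U F → Function.Surjective Φ) := by
  have hS := injSeq_shortExact F
  let S := injSeq F
  let M : AddSubgroup (CC U S.X₂.obj 0) :=
    ((cdiff U S.X₃.obj 0).comp (ccMap U S.g.hom 0)).ker
  let toQ : M →+ Zc U S.X₃.obj 0 :=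
    ((ccMap U S.g.hom 0).comp M.subtype).codRestrict _ fun e => e.2
  have hfac : ∀ e : M, ∃ t, ccMap U S.f.hom 1 t = cdiff U S.X₂.obj 0 e.1 := fun e =>
    ccMap_exact U hS _ (by rw [← cdiff_ccMap]; exact e.2)
  choose t ht using hfac
  have htc : ∀ e, cdiff U S.X₁.obj 1 (t e) = 0 := fun e =>
    ccMap_injective U hS _ (by rw [← cdiff_ccMap, ht, cdiff_cdiff, map_zero])
  let π : M →+ Zc U F.obj 1 := AddMonoidHom.mk' (fun e => ⟨t e, htc e⟩) fun a b =>
    Subtype.ext (ccMap_injective U hS _ (by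
      change ccMap U S.f.hom _ (t (a + b)) = ccMap U S.f.hom _ (t a + t b)
      rw [map_add, ht, ht, ht]
      exact map_add _ _ _))
  have hπ : Function.Surjective π := fun z => by
    obtain ⟨e, he⟩ := injective_cexact U S.X₂ 0 (ccMap U S.f.hom 1 z.1) (by
      rw [cdiff_ccMap, show cdiff U S.X₁.obj 1 z.1 = 0 from z.2, map_zero])
    have hm : e ∈ M := by
      change cdiff U S.X₃.obj 0 (ccMap U S.g.hom 0 e) = 0
      rw [cdiff_ccMap, he, ccMap_comp U hS]
    exact ⟨⟨e, hm⟩, Subtype.ext (ccMap_injective U hS _ ((ht ⟨e, hm⟩).trans he))⟩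
  let φ : M →+ HU (⊤ : Opens X) F 1 := (hδ hS ⊤ 0).comp ((Φ0 U S.X₃ hcov).toAddMonoidHom.comp toQ)
  have hker : ∀ e : M, φ e = 0 ↔ ∃ b, cdiff U S.X₁.obj 0 b = t e := by
    intro e
    refine (hδ_Φ0_eq_zero_iff U hcov F (toQ e)).trans ⟨fun ⟨a, ha, hga⟩ => ?_, fun ⟨b, hb⟩ => ?_⟩
    · change ccMap U S.g.hom 0 a = ccMap U S.g.hom 0 e.1 at hga
      obtain ⟨b, hb⟩ := ccMap_exact U hS (e.1 - a) (by rw [map_sub, hga, sub_self])
      refine ⟨b, ccMap_injective U hS _ ?_⟩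
      rw [← cdiff_ccMap, hb, map_sub, ha, sub_zero, ht]
    · refine ⟨e.1 - ccMap U S.f.hom 0 b, ?_, ?_⟩
      · rw [map_sub, cdiff_ccMap]
        erw [hb]
        rw [ht, sub_self]
      · rw [map_sub, ccMap_comp U hS, sub_zero]
        rfl
  obtain ⟨ψ, hψ⟩ := addMonoidHom_descend π hπ φ fun e he => (hker e).mpr
    ⟨0, by rw [map_zero]; exact (congrArg Subtype.val he).symm⟩
  refine ⟨ψ, fun z => ?_, fun f z z' hz' => ?_, fun hF y => ?_⟩
  · obtain ⟨e, rfl⟩ := hπ z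
    rw [hψ]
    exact hker e
  · obtain ⟨e, rfl⟩ := hπ z
    obtain ⟨Ψ, rfl⟩ := exists_extend f
    have h23 : Ψ.τ₂ ≫ S.g = S.g ≫ Ψ.τ₃ := Ψ.comm₂₃
    have h12 : Ψ.τ₁ ≫ S.f = S.f ≫ Ψ.τ₂ := Ψ.comm₁₂
    have hgg : ccMap U S.g.hom 0 (ccMap U Ψ.τ₂.hom 0 e.1) = ccMap U Ψ.τ₃.hom 0 (ccMap U S.g.hom 0 e.1) := by
      rw [ccMap_ccMap, ccMap_ccMap]
      exact congrArg (fun k => ccMap U k 0 e.1) (congrArg (fun k => k.hom) h23)
    let e' : M := ⟨ccMap U Ψ.τ₂.hom 0 e.1, by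
      change cdiff U S.X₃.obj 0 (ccMap U S.g.hom 0 (ccMap U Ψ.τ₂.hom 0 e.1)) = 0
      rw [hgg, cdiff_ccMap, show cdiff U S.X₃.obj 0 (ccMap U S.g.hom 0 e.1) = 0 from e.2, map_zero]⟩
    have he' : π e' = z' := by
      refine Subtype.ext (ccMap_injective U hS _ ((ht e').trans ?_))
      show cdiff U S.X₂.obj 0 (ccMap U Ψ.τ₂.hom 0 e.1) = ccMap U S.f.hom 1 z'.1
      rw [hz', cdiff_ccMap, ← ht, ccMap_ccMap]
      show ccMap U (S.f.hom ≫ Ψ.τ₂.hom) 1 (t e) = ccMap U S.f.hom _ (ccMap U Ψ.τ₁.hom _ (t e))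
      rw [ccMap_ccMap]
      exact congrArg (fun k => ccMap U k 1 (t e)) (congrArg (fun k => k.hom) h12.symm)
    rw [← he', hψ, hψ]
    show hδ hS ⊤ 0 (Φ0 U S.X₃ hcov (toQ e')) = hmap ⊤ Ψ.τ₁ 1 (hδ hS ⊤ 0 (Φ0 U S.X₃ hcov (toQ e)))
    rw [hδ_naturality hS hS Ψ, Φ0_natural U hcov Ψ.τ₃ (toQ e) (toQ e') hgg]
  · haveI := subsingleton_of_injective (⊤ : Opens X) S.X₂ 0
    obtain ⟨w, hw⟩ := hδ_surjective hS ⊤ 0 y
    obtain ⟨z₀, hz₀⟩ := (Φ0 U S.X₃ hcov).surjective w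
    obtain ⟨e, he⟩ := hF.surjective U z₀.1
    let e' : M := ⟨e, show cdiff U S.X₃.obj 0 (ccMap U S.g.hom 0 e) = 0 by rw [he]; exact z₀.2⟩
    refine ⟨π e', ?_⟩
    rw [hψ, ← hw, ← hz₀]
    show hδ hS ⊤ 0 (Φ0 U S.X₃ hcov (toQ e')) = _
    rw [show toQ e' = z₀ from Subtype.ext he]

/-- The class of a one-cocycle. -/
theorem exists_class (hcov : ⊤ ≤ iSup U) (F : AbSh X) :
    ∃ Φ : Zc U F.obj 1 →+ HU (⊤ : Opens X) F 1, (∀ z, Φ z = 0 ↔ z.1 ∈ Bc U F.obj 1) ∧
      ∀ (f : F ⟶ F) (z z' : Zc U F.obj 1), z'.1 = ccMap U f.hom 1 z.1 → Φ z' = hmap (⊤ : Opens X) f 1 (Φ z) :=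
  (exists_class_surj U hcov F).imp fun _ h => ⟨h.1, h.2.1⟩

/-- Cocycles given on pairwise intersections. -/
def pairs (F : AbSh X) : AddSubgroup (∀ a b, F.obj.obj (op (U a ⊓ U b))) where
  carrier := {c | ∀ a b d, res F.obj (le_inf (inf_le_left.trans inf_le_left) (inf_le_left.trans inf_le_right) :
        U a ⊓ U b ⊓ U d ≤ U a ⊓ U b) (c a b) +
      res F.obj (le_inf (inf_le_left.trans inf_le_right) inf_le_right : U a ⊓ U b ⊓ U d ≤ U b ⊓ U d) (c b d) =
    res F.obj (le_inf (inf_le_left.trans inf_le_left) inf_le_right : U a ⊓ U b ⊓ U d ≤ U a ⊓ U d) (c a d)}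
  add_mem' := fun {c c'} h h' a b d => by
    simp only [Pi.add_apply, map_add]
    rw [← h a b d, ← h' a b d]
    abel
  zero_mem' := fun a b d => by simp
  neg_mem' := fun {c} h a b d => by
    simp only [Pi.neg_apply, map_neg, ← h a b d]
    abel

theorem inter_le_pair (i : Fin 2 → ι) : inter U i ≤ U (i 0) ⊓ U (i 1) :=
  le_inf (inter_le U i 0) (inter_le U i 1)

/-- The cocycle of a pair cocycle. -/
def toZc (F : AbSh X) : pairs U F →+ Zc U F.obj 1 :=
  AddMonoidHom.mk' (fun c => ⟨fun i => res F.obj (inter_le_pair U i) (c.1 (i 0) (i 1)), by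
    show cdiff U F.obj 1 _ = 0
    funext i
    have hW : inter U i ≤ U (i 0) ⊓ U (i 1) ⊓ U (i 2) :=
      le_inf (le_inf (inter_le U i 0) (inter_le U i 1)) (inter_le U i 2)
    have h := congrArg (res F.obj hW) (c.2 (i 0) (i 1) (i 2))
    rw [map_add, res_res, res_res, res_res] at h
    rw [cdiff_apply, Fin.sum_univ_three]
    simp only [res_res, Fin.val_zero, Fin.val_one, Fin.val_two, pow_zero, pow_one, one_smul, neg_smul,
      neg_one_sq, Pi.zero_apply]
    show res F.obj _ (c.1 (i 1) (i 2)) + -res F.obj _ (c.1 (i 0) (i 2)) + res F.obj _ (c.1 (i 0) (i 1)) = 0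
    rw [← h]
    abel⟩) fun c c' => Subtype.ext (funext fun i => map_add (res F.obj (inter_le_pair U i)) _ _)

theorem pair_le_inter (a b : ι) : U a ⊓ U b ≤ inter U ![a, b] := le_iInf fun t => by
  fin_cases t
  · exact inf_le_left
  · exact inf_le_right

theorem toZc_surjective (F : AbSh X) : Function.Surjective (toZc U F) := fun z => by
  refine ⟨⟨fun a b => res F.obj (pair_le_inter U a b) (z.1 ![a, b]), fun a b d => ?_⟩, Subtype.ext (funext fun i => ?_)⟩
  · have hW : U a ⊓ U b ⊓ U d ≤ inter U ![a, b, d] := le_iInf fun t => by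
      fin_cases t
      · exact inf_le_left.trans inf_le_left
      · exact inf_le_left.trans inf_le_right
      · exact inf_le_right
    have h := congrArg (res F.obj hW) (congrFun (show cdiff U F.obj 1 z.1 = 0 from z.2) ![a, b, d])
    rw [cdiff_apply, Fin.sum_univ_three] at h
    simp only [map_add, map_zsmul, res_res, Fin.val_zero, Fin.val_one, Fin.val_two, pow_zero, pow_one, one_smul,
      neg_smul, neg_one_sq, Pi.zero_apply, map_zero, map_neg] at h
    simp only [res_res]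
    rw [cc_congr F.obj z.1 (show (![a, b, d] ∘ (0 : Fin 3).succAbove : Fin 2 → ι) = ![b, d] from
        funext fun t => by fin_cases t <;> rfl) _ ((le_inf (inf_le_left.trans inf_le_right) inf_le_right).trans
          (pair_le_inter U b d)),
      cc_congr F.obj z.1 (show (![a, b, d] ∘ (1 : Fin 3).succAbove : Fin 2 → ι) = ![a, d] from
        funext fun t => by fin_cases t <;> rfl) _ ((le_inf (inf_le_left.trans inf_le_left) inf_le_right).trans
          (pair_le_inter U a d)),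
      cc_congr F.obj z.1 (show (![a, b, d] ∘ (2 : Fin 3).succAbove : Fin 2 → ι) = ![a, b] from
        funext fun t => by fin_cases t <;> rfl) _ (inf_le_left.trans (pair_le_inter U a b))] at h
    rw [← sub_eq_zero, ← h]
    abel
  · show res F.obj _ (res F.obj _ (z.1 _)) = z.1 i
    rw [res_res, cc_congr F.obj z.1 (show ![i 0, i 1] = i from funext fun t => by fin_cases t <;> rfl) _ le_rfl,
      res_self]

theorem exists_coboundary_of_mem (F : AbSh X) (c : pairs U F) (hc : (toZc U F c).1 ∈ Bc U F.obj 1) :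
    ∃ h : ∀ a, F.obj.obj (op (U a)), ∀ a b,
      res F.obj (inf_le_right : U a ⊓ U b ≤ U b) (h b) - res F.obj (inf_le_left : U a ⊓ U b ≤ U a) (h a) = c.1 a b := by
  obtain ⟨b, hb⟩ := hc
  let h : ∀ a, F.obj.obj (op (U a)) := fun a => res F.obj (inter_const (U := U) a).le (b fun _ => a)
  refine ⟨h, fun a a' => ?_⟩
  have hW : U a ⊓ U a' ≤ inter U ![a, a'] := le_iInf fun t => by
    fin_cases t
    · exact inf_le_left
    · exact inf_le_right
  have hbb := congrArg (res F.obj hW) (congrFun hb ![a, a'])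
  rw [cdiff_zero_apply, map_sub, res_res, res_res] at hbb
  have e1 : ∀ (q : Fin 1 → ι) (d : ι) (hq : q = fun _ => d) (h1 : U a ⊓ U a' ≤ inter U q) (h2 : U a ⊓ U a' ≤ U d),
      res F.obj h1 (b q) = res F.obj h2 (h d) := by
    intro q d hq h1 h2
    subst hq
    show _ = res F.obj h2 (res F.obj _ _)
    rw [res_res]
  rw [e1 _ a' (by funext t; fin_cases t; rfl) _ inf_le_right, e1 _ a (by funext t; fin_cases t; rfl) _ inf_le_left] at hbb
  refine hbb.trans ?_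
  show res F.obj hW (res F.obj _ (c.1 a a')) = c.1 a a'
  rw [res_res, res_self]

/-- The class of a pair cocycle: vanishing gives a coboundary, and endomorphisms act through `hmap`. -/
theorem exists_classPair (hcov : ⊤ ≤ iSup U) (F : AbSh X) :
    ∃ Φ : pairs U F →+ HU (⊤ : Opens X) F 1,
      (∀ c, Φ c = 0 → ∃ h : ∀ a, F.obj.obj (op (U a)), ∀ a b,
        res F.obj (inf_le_right : U a ⊓ U b ≤ U b) (h b) - res F.obj (inf_le_left : U a ⊓ U b ≤ U a) (h a) = c.1 a b) ∧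
      ∀ (f : F ⟶ F) (c c' : pairs U F), (∀ a b, c'.1 a b = f.hom.app _ (c.1 a b)) →
        Φ c' = hmap (⊤ : Opens X) f 1 (Φ c) := by
  obtain ⟨Φ, hk, hn⟩ := exists_class U hcov F
  refine ⟨Φ.comp (toZc U F), fun c hc => exists_coboundary_of_mem U F c ((hk _).1 hc),
    fun f c c' hcc => hn f _ _ (funext fun i => ?_)⟩
  show res F.obj _ (c'.1 (i 0) (i 1)) = f.hom.app _ (res F.obj _ (c.1 (i 0) (i 1)))
  rw [hcc]
  exact res_map f.hom _ _

end Groth.Agent.H1ClassLib
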